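import Mathlib.RingTheory.Kaehler.Basic
import Mathlib.RingTheory.Smooth.Basic
import Mathlib.RingTheory.Smooth.Kaehler
import Mathlib.RingTheory.Spectrum.Prime.FreeLocus
import Mathlib.LinearAlgebra.ExteriorPower.Basic
import Mathlib.LinearAlgebra.Determinant

/-!
# The annihilator of the top exterior power of the differentials of a hypersurface

For `B` smooth over `A` of relative dimension `n` and `R = B/g`, the annihilator of `⋀ⁿ Ω[R⁄A]` lies
in the ideal generated by the images of `D g`, `D` a derivation of `B`.
-/

set_option autoImplicit false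
set_option linter.style.haveILetI false

universe u

open TensorProduct KaehlerDifferential Module

namespace Groth.Agent.Hypersurface93

variable (A B R : Type u) [CommRing A] [CommRing B] [CommRing R] [Algebra A B] [Algebra B R]
  [Algebra A R] [IsScalarTower A B R]

theorem annihilator_extPower_le_span [Algebra.Smooth A B] (n : ℕ)
    (hn : ∀ p : PrimeSpectrum B, Module.rankAtStalk (Ω[B⁄A]) p = n) (g : B)
    (hsurj : Function.Surjective (algebraMap B R))
    (hker : RingHom.ker (algebraMap B R) = Ideal.span {g}) :
    (⋀[R]^n (Ω[R⁄A])).annihilator ≤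
      Ideal.span (Set.range fun D : Derivation A B B => algebraMap B R (D g)) := by
  classical
  intro a ha
  replace ha : a ∈ Module.annihilator R ↥(⋀[R]^n (Ω[R⁄A])) := ha
  rw [Module.mem_annihilator] at ha
  set J := Ideal.span (Set.range fun D : Derivation A B B => algebraMap B R (D g)) with hJ
  by_contra haJ
  let Rb := R ⧸ J
  have hann : ((Ideal.span {Ideal.Quotient.mk J a}).annihilator : Ideal Rb) ≠ ⊤ := fun h => by
    refine haJ (Ideal.Quotient.eq_zero_iff_mem.1 ?_)
    have h1 : (1 : Rb) ∈ (Ideal.span {Ideal.Quotient.mk J a}).annihilator := h ▸ Submodule.mem_top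
    simpa using Submodule.mem_annihilator.1 h1 _ (Ideal.mem_span_singleton_self _)
  obtain ⟨P, hP, hle⟩ := Ideal.exists_le_maximal _ hann
  let L := Localization.AtPrime P
  have hJ0 : ∀ D : Derivation A B B, algebraMap B L (D g) = 0 := fun D => by
    rw [IsScalarTower.algebraMap_apply B Rb L, IsScalarTower.algebraMap_apply B R Rb]
    rw [show algebraMap R Rb (algebraMap B R (D g)) = 0 from
      Ideal.Quotient.eq_zero_iff_mem.2 (Ideal.subset_span ⟨D, rfl⟩), map_zero]
  let V := L ⊗[B] Ω[B⁄A]
  have h0 : (1 : L) ⊗ₜ[B] KaehlerDifferential.D A B g = 0 := by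
    obtain ⟨s, hs⟩ := Module.Projective.out (R := B) (P := Ω[B⁄A])
    rw [← hs (KaehlerDifferential.D A B g), Finsupp.linearCombination_apply, Finsupp.sum,
      TensorProduct.tmul_sum]
    refine Finset.sum_eq_zero fun k _ => ?_
    rw [TensorProduct.tmul_smul, ← IsScalarTower.algebraMap_smul L]
    have := hJ0 (((Finsupp.lapply k).comp s).compDer (KaehlerDifferential.D A B))
    rw [show algebraMap B L (s (KaehlerDifferential.D A B g) k) = 0 from this, zero_smul]
  let h : R ⊗[B] Ω[B⁄A] →ₗ[R] V :=
    LinearMap.liftBaseChange R (TensorProduct.mk B L (Ω[B⁄A]) 1)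
  have hh : ∀ ω : Ω[B⁄A], h (1 ⊗ₜ[B] ω) = (1 : L) ⊗ₜ[B] ω := fun ω => by
    rw [LinearMap.liftBaseChange_tmul, one_smul]; rfl
  have hg0 : algebraMap B L g = 0 := by
    rw [IsScalarTower.algebraMap_apply B R L,
      RingHom.mem_ker.mp (hker ▸ Ideal.mem_span_singleton_self g : g ∈ RingHom.ker (algebraMap B R)),
      map_zero]
  have hle' : LinearMap.ker (mapBaseChange A B R) ≤ LinearMap.ker h := by
    intro x hx
    obtain ⟨y, rfl⟩ := (exact_kerCotangentToTensor_mapBaseChange A B R hsurj x).mp hx
    obtain ⟨z, rfl⟩ := (RingHom.ker (algebraMap B R)).toCotangent_surjective y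
    obtain ⟨b, hb⟩ := Ideal.mem_span_singleton'.mp (hker ▸ z.2 : (z : B) ∈ Ideal.span {g})
    rw [LinearMap.mem_ker, kerCotangentToTensor_toCotangent, hh, ← hb, Derivation.leibniz,
      tmul_add, tmul_smul, tmul_smul, h0, smul_zero, zero_add,
      ← IsScalarTower.algebraMap_smul L g, hg0, zero_smul]
  letI : AddCommGroup V := TensorProduct.addCommGroup
  let Φ : Ω[R⁄A] →ₗ[R] V := (Submodule.liftQ (LinearMap.ker (mapBaseChange A B R)) h hle') ∘ₗ
    ((mapBaseChange A B R).quotKerEquivOfSurjective
      (mapBaseChange_surjective A B R hsurj)).symm.toLinearMap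
  have hΦ : ∀ b : B, Φ (KaehlerDifferential.D A R (algebraMap B R b)) =
      (1 : L) ⊗ₜ[B] KaehlerDifferential.D A B b := by
    intro b
    have : ((mapBaseChange A B R).quotKerEquivOfSurjective
      (mapBaseChange_surjective A B R hsurj)).symm (KaehlerDifferential.D A R (algebraMap B R b))
        = Submodule.Quotient.mk (1 ⊗ₜ[B] KaehlerDifferential.D A B b) := by
      rw [LinearEquiv.symm_apply_eq, LinearMap.quotKerEquivOfSurjective_apply_mk]
      simp
    simp only [Φ, LinearMap.comp_apply, LinearEquiv.coe_coe, this, Submodule.liftQ_apply]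
    exact hh _
  haveI : Module.Flat B (Ω[B⁄A]) := inferInstance
  haveI : Module.Free L V := Module.free_of_flat_of_isLocalRing
  have hfin : Module.finrank L V = n := by
    have h2 := Module.rankAtStalk_baseChange (R := B) (S := L) (M := Ω[B⁄A]) (IsLocalRing.closedPoint L)
    rw [hn, Module.rankAtStalk_eq_finrank_of_free] at h2
    exact h2
  let β := Module.finBasisOfFinrankEq L V hfin
  let π : (B →₀ L) →ₗ[L] V :=
    Finsupp.linearCombination L fun b : B => (1 : L) ⊗ₜ[B] KaehlerDifferential.D A B b
  have hπ : LinearMap.range π = ⊤ := by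
    rw [Finsupp.range_linearCombination, eq_top_iff]
    rintro t -
    induction t using TensorProduct.induction_on with
    | zero => exact zero_mem _
    | add a b ha hb => exact add_mem ha hb
    | tmul c ω =>
      have hω : ω ∈ Submodule.span B (Set.range (KaehlerDifferential.D A B)) := by
        rw [KaehlerDifferential.span_range_derivation]; trivial
      induction hω using Submodule.span_induction with
      | mem x hx =>
        obtain ⟨b, rfl⟩ := hx
        rw [← mul_one c, ← smul_eq_mul, ← TensorProduct.smul_tmul']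
        exact Submodule.smul_mem _ _ (Submodule.subset_span ⟨b, rfl⟩)
      | zero => rw [tmul_zero]; exact zero_mem _
      | add x y _ _ hx hy => rw [tmul_add]; exact add_mem hx hy
      | smul r x _ hx =>
        rw [tmul_smul, ← IsScalarTower.algebraMap_smul L r]
        exact Submodule.smul_mem _ _ hx
  let F : Ω[R⁄A] [⋀^Fin n]→ₗ[R] L :=
    { (β.det.toMultilinearMap.restrictScalars R).compLinearMap (fun _ => Φ) with
      map_eq_zero_of_eq' := fun v i j hv hij => by
        show β.det (fun k => Φ (v k)) = 0
        exact AlternatingMap.map_eq_zero_of_eq _ _ (by simp [hv]) hij }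
  have hgen : ∀ b : Fin n → B,
      a • β.det (fun i => (1 : L) ⊗ₜ[B] KaehlerDifferential.D A B (b i)) = 0 := fun b => by
    have := congrArg (exteriorPower.alternatingMapLinearEquiv F)
      (ha (exteriorPower.ιMulti R n fun i => KaehlerDifferential.D A R (algebraMap B R (b i))))
    rw [map_smul, map_zero, exteriorPower.alternatingMapLinearEquiv_apply_ιMulti] at this
    have hF : F (fun i => KaehlerDifferential.D A R (algebraMap B R (b i))) =
        β.det (fun i => (1 : L) ⊗ₜ[B] KaehlerDifferential.D A B (b i)) := by
      show β.det (fun i => Φ (KaehlerDifferential.D A R (algebraMap B R (b i)))) = _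
      simp only [hΦ]
    rwa [hF] at this
  have hzero : ((algebraMap R L a) • β.det).compLinearMap π = 0 := by
    refine Basis.ext_alternating (Finsupp.basisSingleOne (R := L) (ι := B)) fun v _ => ?_
    simp only [AlternatingMap.compLinearMap_apply, AlternatingMap.smul_apply,
      AlternatingMap.zero_apply, Finsupp.coe_basisSingleOne, π, Finsupp.linearCombination_single,
      one_smul]
    rw [algebraMap_smul]
    exact hgen v
  have hsurjπ := LinearMap.range_eq_top.1 hπ
  choose c hc using fun i => hsurjπ (β i)
  have h1 := AlternatingMap.congr_fun hzero c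
  simp only [AlternatingMap.compLinearMap_apply, AlternatingMap.smul_apply,
    AlternatingMap.zero_apply, hc, β.det_self, smul_eq_mul, mul_one] at h1
  rw [IsScalarTower.algebraMap_apply R Rb L, IsLocalization.map_eq_zero_iff P.primeCompl L] at h1
  obtain ⟨t, ht⟩ := h1
  refine t.2 (hle (Submodule.mem_annihilator.2 fun x hx => ?_))
  obtain ⟨r, rfl⟩ := Ideal.mem_span_singleton'.1 hx
  have ht' : (t : Rb) * Ideal.Quotient.mk J a = 0 := ht
  rw [smul_eq_mul, mul_left_comm, ht', mul_zero]

end Groth.Agent.Hypersurface93
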