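import Groth.Agent.GITLib.TorSmooth.Ring
import Mathlib.Algebra.TrivSqZeroExt.Basic
import Mathlib.RingTheory.Smooth.StandardSmoothOfFree
import Mathlib.RingTheory.Smooth.StandardSmoothCotangent
import Mathlib.RingTheory.RingHom.LocallyStandardSmooth

/-!
# Tor dimension over a smooth algebra

A module of tor dimension `≤ m` over `A` has tor dimension `≤ m + n` over a smooth `A`-algebra of
relative dimension `n`.
-/

set_option autoImplicit false

universe u

open TensorProduct
open Groth.Agent

namespace Groth.Agent.Hypersurface93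

variable (A B : Type u) [CommRing A] [CommRing B] [Algebra A B] [Algebra.Smooth A B]

/-- Algebras flat over the base. -/
theorem hasTorDimLE_algebra (n : ℕ) (hn : ∀ p : PrimeSpectrum B, Module.rankAtStalk (Ω[B⁄A]) p = n)
    (C : Type u) [CommRing C] [Algebra A C] [Algebra B C] [IsScalarTower A B C] [Module.Flat A C] :
    DRing.HasTorDimLE B n C := by
  classical
  obtain ⟨s, hs, hstd⟩ := Algebra.Smooth.exists_span_eq_top_isStandardSmooth A B
  obtain ⟨t, hts, ht⟩ := (Ideal.span_eq_top_iff_finite s).mp hs
  let f : Fin t.card → B := fun i => (t.equivFin.symm i : B)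
  have hf : Ideal.span (Set.range fun i => algebraMap B C (f i)) = ⊤ := by
    have : Ideal.span (Set.range f) = ⊤ := by
      rw [← ht]
      congr 1
      ext x
      exact ⟨fun ⟨i, hi⟩ => hi ▸ (t.equivFin.symm i).2, fun hx => ⟨t.equivFin ⟨x, hx⟩, by simp [f]⟩⟩
    rw [show (Set.range fun i => algebraMap B C (f i)) = algebraMap B C '' Set.range f from
      Set.range_comp _ f, ← Ideal.map_span, this, Ideal.map_top]
  refine FlatMor.PC.hasTorDimLE_of_span (fun i => algebraMap B C (f i)) hf fun i => ?_
  let Bf := Localization.Away (f i)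
  let Cf := Localization.Away (algebraMap B C (f i))
  haveI := hstd (f i) (hts (t.equivFin.symm i).2)
  haveI : Module.Flat C Cf := IsLocalization.flat _ (Submonoid.powers (algebraMap B C (f i)))
  haveI : Module.Flat A Cf := Module.Flat.trans A C Cf
  letI : Algebra Bf Cf := (IsLocalization.Away.map Bf Cf (algebraMap B C) (f i)).toAlgebra
  haveI : IsScalarTower B Bf Cf := IsScalarTower.of_algebraMap_eq fun x => by
    show algebraMap B Cf x = IsLocalization.Away.map Bf Cf (algebraMap B C) (f i) (algebraMap B Bf x)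
    rw [IsLocalization.Away.map, IsLocalization.map_eq, ← IsScalarTower.algebraMap_apply]
  haveI : IsScalarTower A Bf Cf := IsScalarTower.of_algebraMap_eq fun x => by
    rw [IsScalarTower.algebraMap_apply A B Bf, ← IsScalarTower.algebraMap_apply B Bf Cf,
      ← IsScalarTower.algebraMap_apply A B Cf]
  haveI : Module.Flat B Bf := IsLocalization.flat _ (Submonoid.powers (f i))
  rcases subsingleton_or_nontrivial Bf with hs' | hnt
  · haveI := Module.subsingleton Bf Cf
    exact FlatMor.PC.hasTorDimLE_of_flat n Cf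
  haveI : Algebra.FormallyEtale B Bf := Algebra.FormallyEtale.of_isLocalization (Submonoid.powers (f i))
  haveI : Algebra.IsStandardSmoothOfRelativeDimension n A Bf := by
    obtain ⟨Q⟩ : Nonempty (PrimeSpectrum Bf) := inferInstance
    have h1 : Module.finrank Bf (Ω[Bf⁄A]) = n := by
      have h2 := congrFun (Module.rankAtStalk_eq_of_equiv
        (KaehlerDifferential.isBaseChange_of_formallyEtale A B Bf).equiv) Q
      rw [Module.rankAtStalk_baseChange, hn, Module.rankAtStalk_eq_finrank_of_free] at h2
      exact h2.symm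
    rw [Algebra.IsStandardSmoothOfRelativeDimension.iff_of_isStandardSmooth, ← h1,
      Module.finrank_eq_rank]
  have h := FlatMor.PC.hasTorDimLE_trans (A := B) (B := Bf) (C := Cf)
    (FlatMor.PC.hasTorDimLE_of_flat 0 Bf) (GITLib.TorSmooth.hasTorDimLE_of_standardSmooth n (A := A))
  rwa [Nat.zero_add] at h

/-- Modules flat over the base. -/
theorem hasTorDimLE_of_flat_base (n : ℕ) (hn : ∀ p : PrimeSpectrum B, Module.rankAtStalk (Ω[B⁄A]) p = n)
    (M : Type u) [AddCommGroup M] [Module A M] [Module B M] [IsScalarTower A B M] [Module.Flat A M] :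
    DRing.HasTorDimLE B n M := by
  letI : Module Bᵐᵒᵖ M := Module.compHom _ ((RingHom.id B).fromOpposite mul_comm)
  haveI : IsCentralScalar B M := ⟨fun r m => rfl⟩
  haveI : Module.Flat A (B × M) :=
      (DRing.TorBalance.hasTorDimLE_zero_iff (A := A) (B × M)).1
        (FlatMor.PC.hasTorDimLE_prod (FlatMor.PC.hasTorDimLE_of_flat 0 B)
          (FlatMor.PC.hasTorDimLE_of_flat 0 M))
  let eA : TrivSqZeroExt B M ≃ₗ[A] B × M :=
    { toFun := fun x => (x.fst, x.snd)
      invFun := fun x => TrivSqZeroExt.inl x.1 + TrivSqZeroExt.inr x.2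
      left_inv := fun x => TrivSqZeroExt.inl_fst_add_inr_snd_eq x
      right_inv := fun x => by simp
      map_add' := fun _ _ => rfl
      map_smul' := fun _ _ => rfl }
  haveI : Module.Flat A (TrivSqZeroExt B M) := Module.Flat.of_linearEquiv eA
  have hC := hasTorDimLE_algebra A B n hn (TrivSqZeroExt B M)
  intro N _ _ p hp
  let i : ModuleCat.of B M ⟶ ModuleCat.of B (TrivSqZeroExt B M) :=
    ModuleCat.ofHom (TrivSqZeroExt.inrHom B M)
  let r : ModuleCat.of B (TrivSqZeroExt B M) ⟶ ModuleCat.of B M :=
    ModuleCat.ofHom (TrivSqZeroExt.sndHom B M)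
  have hir : CategoryTheory.CategoryStruct.comp i r = CategoryTheory.CategoryStruct.id _ := by
    ext m
    exact TrivSqZeroExt.snd_inr B m
  refine ⟨fun x y => ?_⟩
  haveI := hC N p hp
  have key : ∀ z : DRing.Tor B p M N,
      ((((CategoryTheory.Tor (ModuleCat.{u} B) p).map r).app (ModuleCat.of B N)).hom
        ((((CategoryTheory.Tor (ModuleCat.{u} B) p).map i).app (ModuleCat.of B N)).hom z)) = z := by
    intro z
    rw [← CategoryTheory.comp_apply, ← CategoryTheory.NatTrans.comp_app,
      ← CategoryTheory.Functor.map_comp, hir, CategoryTheory.Functor.map_id]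
    rfl
  rw [← key x, ← key y]
  congr 1
  exact Subsingleton.elim _ _

/-- Tor dimension over a smooth algebra. -/
theorem hasTorDimLE_smooth (n : ℕ) (hn : ∀ p : PrimeSpectrum B, Module.rankAtStalk (Ω[B⁄A]) p = n) :
    ∀ (m : ℕ) (M : Type u) [AddCommGroup M] [Module A M] [Module B M] [IsScalarTower A B M],
      DRing.HasTorDimLE A m M → DRing.HasTorDimLE B (m + n) M := by
  intro m
  induction m with
  | zero =>
    intro M _ _ _ _ h
    haveI : Module.Flat A M := (DRing.TorBalance.hasTorDimLE_zero_iff M).1 h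
    rw [Nat.zero_add]
    exact hasTorDimLE_of_flat_base A B n hn M
  | succ m ih =>
    intro M _ _ _ _ h
    let f : (M →₀ B) →ₗ[B] M := Finsupp.linearCombination B id
    have hf : Function.Surjective f := fun x => ⟨Finsupp.single x 1, by simp [f]⟩
    haveI : Module.Flat A (M →₀ B) := Module.Flat.trans A B (M →₀ B)
    let e : ↥(LinearMap.ker (f.restrictScalars A)) ≃ₗ[A] ↥(LinearMap.ker f) :=
      { toFun := fun x => ⟨x.1, x.2⟩, invFun := fun x => ⟨x.1, x.2⟩, map_add' := fun _ _ => rfl,
        map_smul' := fun _ _ => rfl }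
    have := (FlatMor.PC.hasTorDimLE_ker_iff f hf (m + n)).1 (ih _ (FlatMor.PC.hasTorDimLE_congr e
      ((FlatMor.PC.hasTorDimLE_ker_iff (f.restrictScalars A) hf m).2 h)))
    rwa [Nat.add_right_comm] at this

end Groth.Agent.Hypersurface93
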