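import Groth.Agent.Hypersurface93.Syzygy
import Groth.Agent.Hypersurface93.TorDim
import Groth.Agent.Hypersurface93.Annihilator

/-!
# Tor over a smooth hypersurface
-/

set_option autoImplicit false
set_option linter.style.haveILetI false

universe u

open CategoryTheory CategoryTheory.Limits
open Groth.Agent

namespace Groth.Agent.Hypersurface93

variable {A B R : Type u} [CommRing A] [CommRing B] [CommRing R] [Algebra A B] [Algebra B R]
  [Algebra A R] [IsScalarTower A B R] [Algebra.Smooth A B]

theorem tor_high {n : ℕ} (hn : ∀ p : PrimeSpectrum B, Module.rankAtStalk (Ω[B⁄A]) p = n)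
    {g : B} (hg : IsSMulRegular B g) (hsurj : Function.Surjective (algebraMap B R))
    (hker : RingHom.ker (algebraMap B R) = Ideal.span {g})
    {m : ℕ} (M : ModuleCat.{u} R) (N : Type u) [AddCommGroup N] [Module R N]
    (hM : ∀ (P : ModuleCat.{u} A) (i : ℕ), m < i →
      IsZero (((Tor (ModuleCat.{u} A) i).obj ((ModuleCat.restrictScalars (algebraMap A R)).obj M)).obj P))
    (q : ℕ) (hq : m + n ≤ q) :
    Nonempty (DRing.Tor R (q + 2) M N ≃ₗ[R] DRing.Tor R q M N) ∧
      ∀ (D : Derivation A B B) (y : DRing.Tor R q M N), algebraMap B R (D g) • y = 0 := by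
  letI : Module A M := Module.compHom M (algebraMap A R)
  letI : Module B M := Module.compHom M (algebraMap B R)
  haveI : IsScalarTower B R M := IsScalarTower.of_algebraMap_smul fun _ _ => rfl
  haveI : IsScalarTower A B M := IsScalarTower.of_algebraMap_smul fun a x => by
    show algebraMap B R (algebraMap A B a) • x = algebraMap A R a • x
    rw [← IsScalarTower.algebraMap_apply]
  let e : ((ModuleCat.restrictScalars (algebraMap A R)).obj M : ModuleCat.{u} A) ≃ₗ[A] M :=
    { toFun := fun x => x, invFun := fun x => x, left_inv := fun _ => rfl, right_inv := fun _ => rfl,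
      map_add' := fun _ _ => rfl, map_smul' := fun _ _ => rfl }
  have hA : DRing.HasTorDimLE A m M := FlatMor.PC.hasTorDimLE_congr e fun P _ _ i hi =>
    ModuleCat.subsingleton_of_isZero (hM (ModuleCat.of A P) i hi)
  have hB := hasTorDimLE_smooth A B n hn m M hA
  rcases Nat.eq_zero_or_pos (m + n) with h | h
  · rw [h] at hB
    haveI : Module.Flat B M := (DRing.TorBalance.hasTorDimLE_zero_iff _).1 hB
    haveI := subsingleton_of_flat (R := R) hker hg M
    haveI := fun i => subsingleton_tor_of_subsingleton (R := R) M N i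
    exact ⟨⟨LinearEquiv.ofSubsingleton _ _⟩, fun D y => Subsingleton.elim _ _⟩
  · obtain ⟨d, hd⟩ : ∃ d, m + n = d + 1 := ⟨m + n - 1, by omega⟩
    obtain ⟨i, rfl⟩ : ∃ i, q = i + d + 1 := ⟨q - (d + 1), by omega⟩
    rw [hd] at hB
    obtain ⟨he, hk⟩ := high_degrees hsurj hg hker d M hB N i
    exact ⟨he, fun D y => hk D y⟩

end Groth.Agent.Hypersurface93
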