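import Groth.Agent.FlatMor.PC.Stalks
import Groth.Agent.FlatCx.TorLES
import Groth.Agent.LocCoh.TorKill
import Mathlib.RingTheory.Derivation.Basic
import Mathlib.RingTheory.TensorProduct.Finite

/-!
# Periodicity over a hypersurface

For `R = B/g` and an `R`-module `M` of tor dimension `≤ 1` over `B` with presentation
`0 → K → F → M → 0` there is an exact sequence `0 → M → R ⊗ K → R ⊗ F → M → 0`, and for a derivation
`D` of `B` the multiplication by `D g` factors through `R ⊗ K`.
-/

set_option autoImplicit false
set_option linter.unusedSectionVars false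

universe u

open CategoryTheory TensorProduct
open Groth.Agent

noncomputable section

namespace Groth.Agent.Hypersurface93

variable {B R : Type u} [CommRing B] [CommRing R] [Algebra B R]
  (hsurj : Function.Surjective (algebraMap B R)) {g : B} (hg : IsSMulRegular B g)
  (hker : RingHom.ker (algebraMap B R) = Ideal.span {g})

include hker in
theorem algebraMap_g : algebraMap B R g = 0 := RingHom.mem_ker.1 (hker ▸ Ideal.mem_span_singleton_self g)

include hker in
theorem g_smul_eq_zero {M : Type u} [AddCommGroup M] [Module B M] [Module R M] [IsScalarTower B R M]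
    (x : M) : g • x = 0 := by
  rw [← IsScalarTower.algebraMap_smul R g x, algebraMap_g hker, zero_smul]

include hker in
theorem exact_mul_g : Function.Exact (LinearMap.toSpanSingleton B B g) (Algebra.linearMap B R) := by
  intro x
  rw [show Algebra.linearMap B R x = 0 ↔ x ∈ RingHom.ker (algebraMap B R) from Iff.rfl, hker,
    Ideal.mem_span_singleton']
  exact Iff.rfl

include hsurj hker in
theorem exists_of_one_tmul_eq_zero {X : Type u} [AddCommGroup X] [Module B X] {x : X}
    (h : (1 : R) ⊗ₜ[B] x = 0) : ∃ y : X, g • y = x := by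
  obtain ⟨z, hz⟩ := (rTensor_exact X (exact_mul_g hker) hsurj ((1 : B) ⊗ₜ[B] x)).1 (by
    rw [LinearMap.rTensor_tmul]
    show algebraMap B R 1 ⊗ₜ[B] x = 0
    rw [map_one, h])
  refine ⟨TensorProduct.lid B X z, ?_⟩
  have := congrArg (TensorProduct.lid B X) hz
  rw [TensorProduct.lid_tmul, one_smul] at this
  rw [← this]
  clear this hz
  induction z with
  | zero => simp
  | tmul b y =>
    rw [LinearMap.rTensor_tmul, TensorProduct.lid_tmul, TensorProduct.lid_tmul,
      LinearMap.toSpanSingleton_apply, smul_smul, smul_eq_mul, mul_comm]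
  | add a b ha hb => simp only [map_add, smul_add, ha, hb]

include hker in
theorem one_tmul_g_smul {X : Type u} [AddCommGroup X] [Module B X] (x : X) :
    (1 : R) ⊗ₜ[B] (g • x) = 0 := by
  rw [TensorProduct.tmul_smul, TensorProduct.smul_tmul', Algebra.smul_def, mul_one, algebraMap_g hker,
    TensorProduct.zero_tmul]

section Pres

variable (M : Type u) [AddCommGroup M] [Module R M] [Module B M] [IsScalarTower B R M]

/-- The tautological presentation. -/
def pres : (M →₀ B) →ₗ[B] M := Finsupp.linearCombination B id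

theorem pres_surjective : Function.Surjective (pres (B := B) M) := fun x =>
  ⟨Finsupp.single x 1, by simp [pres]⟩

/-- Reduction of the presentation. -/
def pbar : R ⊗[B] (M →₀ B) →ₗ[R] M := (pres M).liftBaseChange R

theorem pbar_tmul (r : R) (f : M →₀ B) : pbar (R := R) M (r ⊗ₜ f) = r • pres M f :=
  LinearMap.liftBaseChange_tmul _ _ _ _

/-- Reduction of the inclusion of the relations. -/
def phibar : R ⊗[B] LinearMap.ker (pres (B := B) M) →ₗ[R] R ⊗[B] (M →₀ B) :=
  (LinearMap.ker (pres (B := B) M)).subtype.baseChange R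

theorem pbar_surjective : Function.Surjective (pbar (B := B) (R := R) M) := fun x => by
  obtain ⟨f, rfl⟩ := pres_surjective (B := B) M x
  exact ⟨1 ⊗ₜ f, by rw [pbar_tmul, one_smul]⟩

include hsurj in
theorem exact_phibar_pbar : Function.Exact (phibar (B := B) (R := R) M) (pbar M) := by
  intro z
  constructor
  · intro hz
    obtain ⟨f, rfl⟩ := TensorProduct.mk_surjective B (M →₀ B) R hsurj z
    rw [TensorProduct.mk_apply, pbar_tmul, one_smul] at hz
    exact ⟨1 ⊗ₜ ⟨f, hz⟩, by rw [phibar, LinearMap.baseChange_tmul]; rfl⟩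
  · rintro ⟨w, rfl⟩
    obtain ⟨k, rfl⟩ := TensorProduct.mk_surjective B (LinearMap.ker (pres (B := B) M)) R hsurj w
    rw [TensorProduct.mk_apply, phibar, LinearMap.baseChange_tmul, pbar_tmul, one_smul]
    exact k.2

/-- `f ↦ g f` into the relations. -/
def mulG : (M →₀ B) →ₗ[B] LinearMap.ker (pres (B := B) M) :=
  (g • LinearMap.id).codRestrict _ fun f => by
    rw [LinearMap.mem_ker, LinearMap.smul_apply, LinearMap.id_apply, map_smul]
    exact g_smul_eq_zero hker (R := R) _

/-- `[f] ↦ 1 ⊗ g f`, over `B`. -/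
def iotaB : M →ₗ[B] R ⊗[B] LinearMap.ker (pres (B := B) M) :=
  (Submodule.liftQ (LinearMap.ker (pres (B := B) M))
      ((TensorProduct.mk B R _ 1) ∘ₗ mulG hker M) fun f hf => by
        rw [LinearMap.mem_ker, LinearMap.comp_apply, TensorProduct.mk_apply]
        rw [show mulG hker M f = g • (⟨f, hf⟩ : LinearMap.ker (pres (B := B) M)) from Subtype.ext rfl]
        exact one_tmul_g_smul (X := ↥(LinearMap.ker (pres (B := B) M))) (R := R) hker _) ∘ₗ
    ((pres (B := B) M).quotKerEquivOfSurjective (pres_surjective M)).symm.toLinearMap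

/-- `[f] ↦ 1 ⊗ g f`. -/
def iota : M →ₗ[R] R ⊗[B] LinearMap.ker (pres (B := B) M) :=
  LinearMap.extendScalarsOfSurjective hsurj (iotaB hker M)

theorem iota_pres (f : M →₀ B) : iota hsurj hker M (pres M f) = (1 : R) ⊗ₜ[B] mulG hker M f := by
  show iotaB hker M (pres M f) = _
  rw [iotaB, LinearMap.comp_apply, LinearEquiv.coe_coe]
  rw [show ((pres (B := B) M).quotKerEquivOfSurjective (pres_surjective M)).symm (pres M f) =
    Submodule.Quotient.mk f from (LinearEquiv.symm_apply_eq _).2 rfl]
  rw [Submodule.liftQ_apply]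
  rfl

include hg in
theorem smul_g_injective {f f' : M →₀ B} (h : g • f = g • f') : f = f' :=
  Finsupp.ext fun i => hg (by simpa using DFunLike.congr_fun h i)

include hg in
theorem iota_injective : Function.Injective (iota hsurj hker M) := by
  rw [injective_iff_map_eq_zero]
  intro x hx
  obtain ⟨f, rfl⟩ := pres_surjective (B := B) M x
  rw [iota_pres] at hx
  obtain ⟨k, hk⟩ := exists_of_one_tmul_eq_zero (X := ↥(LinearMap.ker (pres (B := B) M))) hsurj hker hx
  have : f = (k : M →₀ B) := smul_g_injective hg M (congrArg Subtype.val hk).symm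
  rw [this]
  exact k.2

include hg in
theorem exact_iota_phibar : Function.Exact (iota hsurj hker M) (phibar (B := B) (R := R) M) := by
  intro z
  constructor
  · intro hz
    obtain ⟨k, rfl⟩ := TensorProduct.mk_surjective B (LinearMap.ker (pres (B := B) M)) R hsurj z
    rw [TensorProduct.mk_apply, phibar, LinearMap.baseChange_tmul] at hz
    obtain ⟨f, hf⟩ := exists_of_one_tmul_eq_zero hsurj hker hz
    refine ⟨pres M f, ?_⟩
    rw [iota_pres, TensorProduct.mk_apply]
    exact congrArg _ (Subtype.ext hf)
  · rintro ⟨x, rfl⟩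
    obtain ⟨f, rfl⟩ := pres_surjective (B := B) M x
    rw [iota_pres, phibar, LinearMap.baseChange_tmul]
    exact one_tmul_g_smul hker f

variable {M} (hM : DRing.HasTorDimLE B 1 M)

include hM in
theorem flat_ker : Module.Flat B (LinearMap.ker (pres (B := B) M)) :=
  (DRing.TorBalance.hasTorDimLE_zero_iff _).1
    ((FlatMor.PC.hasTorDimLE_ker_iff _ (pres_surjective M) 0).2 hM)

include hsurj hg hker hM in
/-- Periodicity. -/
theorem nonempty_tor_periodic (N : Type u) [AddCommGroup N] [Module R N] (i : ℕ) :
    Nonempty (DRing.Tor R (i + 3) M N ≃ₗ[R] DRing.Tor R (i + 1) M N) := by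
  haveI := flat_ker hM
  let p := pbar (B := B) (R := R) M
  let φ := phibar (B := B) (R := R) M
  obtain ⟨e1⟩ := FlatCx.TorLES.nonempty_tor_shift (X := ↥(LinearMap.ker p)) N (LinearMap.ker p).subtype p (Submodule.injective_subtype _)
    (pbar_surjective M) (LinearMap.exact_subtype_ker_map p) (i + 1)
  let φ' : R ⊗[B] LinearMap.ker (pres (B := B) M) →ₗ[R] LinearMap.ker p :=
    φ.codRestrict _ fun z => (exact_phibar_pbar hsurj M).apply_apply_eq_zero z
  have hφ' : Function.Surjective φ' := fun z => by
    obtain ⟨w, hw⟩ := (exact_phibar_pbar hsurj M z.1).1 z.2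
    exact ⟨w, Subtype.ext hw⟩
  have hex : Function.Exact (iota hsurj hker M) φ' := fun z => by
    rw [← exact_iota_phibar hsurj hg hker M z]
    exact ⟨fun h => congrArg Subtype.val h, fun h => Subtype.ext h⟩
  obtain ⟨e2⟩ := FlatCx.TorLES.nonempty_tor_shift (Z := ↥(LinearMap.ker p)) N (iota hsurj hker M) φ'
    (iota_injective hsurj hg hker M) hφ' hex i
  exact ⟨e1.trans e2⟩

section Deriv

variable {A : Type u} [CommRing A] [Algebra A B] (D : Derivation A B B)

/-- The connection on `F`. -/
def conn (f : M →₀ B) : M →₀ B := f.mapRange D (map_zero D)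

theorem conn_add (f f' : M →₀ B) : conn D (f + f') = conn D f + conn D f' :=
  Finsupp.ext fun i => by simp [conn]

theorem conn_smul (b : B) (f : M →₀ B) : conn D (b • f) = b • conn D f + D b • f :=
  Finsupp.ext fun i => by
    simp only [conn, Finsupp.mapRange_apply, Finsupp.smul_apply, Finsupp.add_apply, smul_eq_mul,
      Derivation.leibniz]
    ring

/-- `k ↦ [∇ k]`. -/
def theta0 : LinearMap.ker (pres (B := B) M) →ₗ[B] M where
  toFun k := pres M (conn D k.1)
  map_add' k k' := by rw [Submodule.coe_add, conn_add, map_add]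
  map_smul' b k := by
    rw [Submodule.coe_smul, conn_smul, map_add, map_smul, map_smul, LinearMap.mem_ker.1 k.2,
      smul_zero, add_zero]
    rfl

theorem theta_iota (x : M) :
    ((theta0 D).liftBaseChange R) (iota hsurj hker M x) = algebraMap B R (D g) • x := by
  obtain ⟨f, rfl⟩ := pres_surjective (B := B) M x
  rw [iota_pres, LinearMap.liftBaseChange_tmul, one_smul]
  show pres M (conn D (g • f)) = _
  rw [conn_smul, map_add, map_smul, g_smul_eq_zero hker (R := R), zero_add, map_smul,
    IsScalarTower.algebraMap_smul]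

include hsurj hker hM in
/-- `D g` kills `Tor`. -/
theorem derivation_smul_tor_eq_zero (N : Type u) [AddCommGroup N] [Module R N] (i : ℕ)
    (y : DRing.Tor R (i + 1) M N) : algebraMap B R (D g) • y = 0 := by
  haveI := flat_ker hM
  let P := ModuleCat.of R (R ⊗[B] LinearMap.ker (pres (B := B) M))
  let a : ModuleCat.of R M ⟶ P := ModuleCat.ofHom (iota hsurj hker M)
  let b : P ⟶ ModuleCat.of R M := ModuleCat.ofHom ((theta0 D).liftBaseChange R)
  have hab : a ≫ b = algebraMap B R (D g) • 𝟙 _ := by
    ext x
    exact theta_iota hsurj hker D x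
  have h := LocCoh.Tor.tf_smul (M := ModuleCat.of R M) (algebraMap B R (D g)) (i + 1) (ModuleCat.of R N) y
  rw [← hab, LocCoh.Tor.tf_comp_apply] at h
  rw [← h]
  haveI : Module.Flat R P := inferInstanceAs (Module.Flat R (R ⊗[B] LinearMap.ker (pres (B := B) M)))
  rw [LocCoh.Tor.tor_succ_eq_zero_of_flat P i (ModuleCat.of R N)
    ((LocCoh.Tor.tf a (i + 1) (ModuleCat.of R N)).hom y), map_zero]

end Deriv

end Pres

end Groth.Agent.Hypersurface93
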