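import Groth.Agent.Hypersurface93.Periodic

/-!
# Periodicity and annihilation in high degrees over a hypersurface

By syzygies over `R = B/g` the case of an `R`-module of tor dimension `≤ d + 1` over `B` reduces to
tor dimension `≤ 1`.
-/

set_option autoImplicit false
set_option linter.unusedSectionVars false
set_option linter.style.haveILetI false

universe u

open CategoryTheory TensorProduct
open Groth.Agent
open Groth.Agent.DRing Groth.Agent.DRing.PC

attribute [local instance] HasDerivedCategory.standard

namespace Groth.Agent.Hypersurface93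

theorem hasTorDimLE_ker {P : Type u} [CommRing P] {F M : Type u} [AddCommGroup F] [Module P F]
    [AddCommGroup M] [Module P M] (f : F →ₗ[P] M) (hf : Function.Surjective f) (e : ℕ)
    (hF : DRing.HasTorDimLE P e F) (hM : DRing.HasTorDimLE P (e + 1) M) :
    DRing.HasTorDimLE P e (LinearMap.ker f) := by
  obtain ⟨T, hT, h1, h2, h3⟩ := exists_triangle_of_surjective f hf
  rw [TorBalance.hasTorDimLE_iff, ← h2] at hF
  rw [TorBalance.hasTorDimLE_iff, ← h3] at hM
  refine FlatMor.PC.hasTorDimLE_of_torAmp (b := 1) ?_
  rw [← h1]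
  have := (TorAmp.torAmp_of_triangle hT (-((e + 1 : ℕ) : ℤ)) 0).2.2
    (TorAmp.torAmp_mono hF (by push_cast; omega) (by omega)) hM
  exact TorAmp.torAmp_mono this (by push_cast; omega) (by omega)

variable {B R : Type u} [CommRing B] [CommRing R] [Algebra B R]
  (hsurj : Function.Surjective (algebraMap B R)) {g : B} (hg : IsSMulRegular B g)
  (hker : RingHom.ker (algebraMap B R) = Ideal.span {g})

include hsurj hg hker in
theorem hasTorDimLE_one_free (X : Type u) : DRing.HasTorDimLE B 1 (X →₀ R) := by
  let p : (X →₀ B) →ₗ[B] (X →₀ R) := Finsupp.mapRange.linearMap (Algebra.linearMap B R)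
  have hp : Function.Surjective p := fun f => by
    induction f using Finsupp.induction_linear with
    | zero => exact ⟨0, map_zero p⟩
    | add a b ha hb =>
      obtain ⟨x, rfl⟩ := ha
      obtain ⟨y, rfl⟩ := hb
      exact ⟨x + y, map_add p x y⟩
    | single i r =>
      obtain ⟨b, rfl⟩ := hsurj r
      exact ⟨Finsupp.single i b, by simp [p]⟩
  let e : (X →₀ B) →ₗ[B] LinearMap.ker p := (g • LinearMap.id).codRestrict _ fun f => by
    rw [LinearMap.mem_ker, LinearMap.smul_apply, LinearMap.id_apply, map_smul]
    exact g_smul_eq_zero hker (R := R) _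
  have he : Function.Bijective e := by
    refine ⟨fun f f' h => Finsupp.ext fun i => hg ?_, fun k => ?_⟩
    · simpa [e] using DFunLike.congr_fun (congrArg Subtype.val h) i
    have hk : ∀ i, (k : X →₀ B) i ∈ Ideal.span {g} := fun i => by
      rw [← hker, RingHom.mem_ker]
      exact DFunLike.congr_fun (LinearMap.mem_ker.1 k.2) i
    choose c hc using fun i => Ideal.mem_span_singleton'.1 (hk i)
    refine ⟨Finsupp.onFinset (k : X →₀ B).support c fun i hi => ?_, Subtype.ext (Finsupp.ext fun i => ?_)⟩
    · rw [Finsupp.mem_support_iff, ← hc i]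
      exact fun h => hi (hg (by simpa [mul_comm] using h))
    · show g • c i = _
      rw [smul_eq_mul, mul_comm, hc]
  haveI : Module.Flat B (LinearMap.ker p) := Module.Flat.of_linearEquiv (LinearEquiv.ofBijective e he).symm
  exact (FlatMor.PC.hasTorDimLE_ker_iff p hp 0).1 (FlatMor.PC.hasTorDimLE_of_flat 0 _)

include hsurj hg hker in
/-- Periodicity and annihilation above the tor dimension over `B`. -/
theorem high_degrees (d : ℕ) : ∀ (M : Type u) [AddCommGroup M] [Module R M] [Module B M]
    [IsScalarTower B R M], DRing.HasTorDimLE B (d + 1) M →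
    ∀ (N : Type u) [AddCommGroup N] [Module R N] (i : ℕ),
      Nonempty (DRing.Tor R (i + d + 3) M N ≃ₗ[R] DRing.Tor R (i + d + 1) M N) ∧
      ∀ {A : Type u} [CommRing A] [Algebra A B] (D : Derivation A B B)
        (y : DRing.Tor R (i + d + 1) M N), algebraMap B R (D g) • y = 0 := by
  induction d with
  | zero =>
    intro M _ _ _ _ hM N _ _ i
    exact ⟨nonempty_tor_periodic hsurj hg hker hM N i,
      fun D y => derivation_smul_tor_eq_zero hsurj hker hM D N i y⟩
  | succ d ih =>
    intro M _ _ _ _ hM N _ _ i
    let f : (M →₀ R) →ₗ[R] M := Finsupp.linearCombination R id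
    have hf : Function.Surjective f := fun x => ⟨Finsupp.single x 1, by simp [f]⟩
    let e : ↥(LinearMap.ker (f.restrictScalars B)) ≃ₗ[B] ↥(LinearMap.ker f) :=
      { toFun := fun x => ⟨x.1, x.2⟩, invFun := fun x => ⟨x.1, x.2⟩, map_add' := fun _ _ => rfl,
        map_smul' := fun _ _ => rfl }
    have hX : DRing.HasTorDimLE B (d + 1) (LinearMap.ker f) :=
      FlatMor.PC.hasTorDimLE_congr e (hasTorDimLE_ker (f.restrictScalars B) hf (d + 1)
        (FlatMor.PC.hasTorDimLE_mono (by omega) (hasTorDimLE_one_free hsurj hg hker M)) hM)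
    obtain ⟨⟨eX⟩, hkill⟩ := ih (LinearMap.ker f) hX N i
    obtain ⟨e1⟩ := FlatCx.TorLES.nonempty_tor_shift (X := ↥(LinearMap.ker f)) N (LinearMap.ker f).subtype f
      (Submodule.injective_subtype _) hf (LinearMap.exact_subtype_ker_map f) (i + d + 2)
    obtain ⟨e2⟩ := FlatCx.TorLES.nonempty_tor_shift (X := ↥(LinearMap.ker f)) N (LinearMap.ker f).subtype f
      (Submodule.injective_subtype _) hf (LinearMap.exact_subtype_ker_map f) (i + d)
    refine ⟨⟨e1.trans (eX.trans e2.symm)⟩, fun D y => e2.injective ?_⟩
    rw [map_smul, map_zero]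
    exact hkill D _

include hker in
/-- An `R`-module flat over `B` vanishes. -/
theorem subsingleton_of_flat (hg : IsSMulRegular B g) (M : Type u) [AddCommGroup M] [Module R M]
    [Module B M] [IsScalarTower B R M] [Module.Flat B M] : Subsingleton M := by
  refine subsingleton_of_forall_eq 0 fun x => ?_
  have h : IsSMulRegular M g := Module.Flat.isSMulRegular_of_isRegular ⟨fun a b h => hg h, fun a b h => hg (by simpa [mul_comm] using h)⟩
  exact h (by simp only [g_smul_eq_zero hker (R := R)])

/-- `Tor` of a subsingleton vanishes. -/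
theorem subsingleton_tor_of_subsingleton (M : Type u) [AddCommGroup M] [Module R M] [Subsingleton M]
    (N : Type u) [AddCommGroup N] [Module R N] (i : ℕ) : Subsingleton (DRing.Tor R i M N) :=
  subsingleton_of_forall_eq 0 fun y => by
    have := LocCoh.Tor.kill_of_module (M := ModuleCat.of R M) (c := (1 : R))
      (fun x => Subsingleton.elim _ _) i (ModuleCat.of R N) y
    rwa [one_smul] at this

end Groth.Agent.Hypersurface93
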